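import Groth.Agent.Pi1X.UnivInj

/-!
# Coinvariants of a comodule along a universally injective ring map

For a universally injective `R → S` the equalizer of a coaction is a split one after taking
character modules, so it is preserved by `S ⊗ -`.
-/

universe u

open TensorProduct

namespace Groth.Agent.DescLib.ModDesc

variable {R S : Type u} [CommRing R] [CommRing S] [Algebra R S]

/-- An `R`-linear section of the restriction of characters of `S` to characters of `R`. -/
theorem exists_charSection (h : Pi1.UnivInjective R S) :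
    ∃ σ : CharacterModule R →ₗ[R] CharacterModule S, ∀ H r, σ H (algebraMap R S r) = H r := by
  obtain ⟨ψ, hψ⟩ := rTensor_injective_iff_lcomp_surjective.1
    ((LinearMap.lTensor_inj_iff_rTensor_inj _ _).1 (h (CharacterModule R)))
    (Pi1X.flipChar (LinearMap.id : CharacterModule R →ₗ[R] CharacterModule R))
  exact ⟨Pi1X.flipChar ψ, fun H r => DFunLike.congr_fun (DFunLike.congr_fun hψ r) H⟩

variable (σ : CharacterModule R →ₗ[R] CharacterModule S)

/-- Extension of characters of `X` to `S ⊗ X`. -/
noncomputable def extChar (X : Type u) [AddCommGroup X] [Module R X] :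
    CharacterModule X →ₗ[R] CharacterModule (S ⊗[R] X) where
  toFun f := CharacterModule.uncurry
    (Pi1X.flipChar (σ.comp (Pi1X.flipChar (LinearMap.toSpanSingleton R (CharacterModule X) f))))
  map_add' f g := by
    refine DFunLike.ext _ _ fun z => ?_
    induction z using TensorProduct.induction_on with
    | zero => simp only [map_zero]
    | tmul a x =>
      show σ _ a = (σ _ + σ _) a
      refine congrArg (fun c : CharacterModule S => c a) ((congrArg σ ?_).trans (map_add σ _ _))
      refine DFunLike.ext _ _ fun r => ?_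
      show (r • (f + g)) x = (r • f) x + (r • g) x
      rfl
    | add z w hz hw => rw [map_add, map_add, hz, hw]
  map_smul' t f := by
    refine DFunLike.ext _ _ fun z => ?_
    induction z using TensorProduct.induction_on with
    | zero => simp only [map_zero]
    | tmul a x =>
      show σ _ a = σ _ (t • a)
      rw [← CharacterModule.smul_apply, ← map_smul]
      refine congrArg (fun c => σ c a) ?_
      refine DFunLike.ext _ _ fun r => ?_
      show f (t • r • x) = f ((t • r) • x)
      rw [smul_smul, smul_eq_mul]
    | add z w hz hw => rw [map_add, map_add, hz, hw]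

variable {σ} {X Y : Type u} [AddCommGroup X] [Module R X] [AddCommGroup Y] [Module R Y]

lemma extChar_one (hσ : ∀ H r, σ H (algebraMap R S r) = H r) (f : CharacterModule X) (x : X) :
    extChar σ X f ((1 : S) ⊗ₜ x) = f x := by
  show σ _ 1 = f x
  rw [← map_one (algebraMap R S), hσ]
  show f ((1 : R) • x) = f x
  rw [one_smul]

lemma extChar_natural (g : X →ₗ[R] Y) (f : CharacterModule Y) (z : S ⊗[R] X) :
    extChar σ X (CharacterModule.dual g f) z = extChar σ Y f (g.lTensor S z) := by
  induction z using TensorProduct.induction_on with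
  | zero => simp only [map_zero]
  | tmul a x =>
    rw [LinearMap.lTensor_tmul]
    show σ _ a = σ _ a
    refine congrArg (fun c => σ c a) ?_
    refine DFunLike.ext _ _ fun r => ?_
    show f (g (r • x)) = f (r • g x)
    rw [map_smul]
  | add z w hz hw => rw [map_add, map_add, map_add, hz, hw]

section Coaction

variable {N : Type u} [AddCommGroup N] [Module R N] (ρ : N →ₗ[R] S ⊗[R] N)

/-- The difference of the coaction with the trivial one. -/
noncomputable def delta : N →ₗ[R] S ⊗[R] N := ρ - TensorProduct.mk R S N 1

/-- The coinvariants. -/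
noncomputable def inv : Submodule R N := LinearMap.ker (delta ρ)

lemma mem_inv {n : N} : n ∈ inv ρ ↔ ρ n = (1 : S) ⊗ₜ n := by
  rw [inv, LinearMap.mem_ker, delta, LinearMap.sub_apply, sub_eq_zero]; rfl

/-- Coassociativity. -/
def Coassoc : Prop :=
  ∀ n, ρ.lTensor S (ρ n) = (TensorProduct.mk R S N 1).lTensor S (ρ n)

variable (σ) in
/-- The retraction on characters. -/
noncomputable def proj : CharacterModule N →ₗ[R] CharacterModule N :=
  (CharacterModule.dual ρ).comp (extChar σ N)

variable {ρ} (hσ : ∀ H r, σ H (algebraMap R S r) = H r)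

include hσ in
lemma sub_proj (f : CharacterModule N) :
    f - proj σ ρ f = CharacterModule.dual (delta ρ) (-extChar σ N f) := by
  refine DFunLike.ext _ _ fun n => ?_
  show f n - extChar σ N f (ρ n) = -(extChar σ N f (ρ n - (1 : S) ⊗ₜ n))
  rw [map_sub, neg_sub, extChar_one hσ]

lemma proj_dual_delta (hco : Coassoc ρ) (g : CharacterModule (S ⊗[R] N)) :
    proj σ ρ (CharacterModule.dual (delta ρ) g) = 0 := by
  refine DFunLike.ext _ _ fun n => ?_
  show extChar σ N _ (ρ n) = 0
  rw [extChar_natural, delta, LinearMap.lTensor_sub, LinearMap.sub_apply, hco, sub_self, map_zero]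

lemma exists_dual_delta {f : CharacterModule N} (hf : ∀ m ∈ inv ρ, f m = 0) :
    ∃ g, CharacterModule.dual (delta ρ) g = f := by
  let f₁ : CharacterModule (N ⧸ inv ρ) := QuotientAddGroup.lift (inv ρ).toAddSubgroup f hf
  obtain ⟨g, hg⟩ := CharacterModule.dual_surjective_of_injective ((inv ρ).liftQ (delta ρ) le_rfl)
    (LinearMap.ker_eq_bot.1 (Submodule.ker_liftQ_eq_bot _ _ _ le_rfl)) f₁
  exact ⟨g, DFunLike.ext _ _ fun n => DFunLike.congr_fun hg (Submodule.Quotient.mk n)⟩

lemma proj_eq_zero (hco : Coassoc ρ) {f : CharacterModule N} (hf : ∀ m ∈ inv ρ, f m = 0) :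
    proj σ ρ f = 0 := by
  obtain ⟨g, rfl⟩ := exists_dual_delta hf
  exact proj_dual_delta hco g

include hσ in
/-- Tensoring the coinvariants sequence is exact in the middle. -/
theorem exact_lTensor_inv (hco : Coassoc ρ) :
    Function.Exact ((inv ρ).subtype.lTensor S) ((delta ρ).lTensor S) := by
  intro y
  refine ⟨fun hy => ?_, ?_⟩
  · show y ∈ LinearMap.range ((inv ρ).subtype.lTensor S)
    rw [← Submodule.Quotient.mk_eq_zero]
    refine CharacterModule.eq_zero_of_character_apply fun c => ?_
    let c' : CharacterModule (S ⊗[R] N) :=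
      CharacterModule.dual (LinearMap.range ((inv ρ).subtype.lTensor S)).mkQ c
    have hc : ∀ (a : S) (m : N), m ∈ inv ρ → c' (a ⊗ₜ m) = 0 := fun a m hm => by
      show c (Submodule.Quotient.mk _) = 0
      have hr : a ⊗ₜ[R] m ∈ LinearMap.range ((inv ρ).subtype.lTensor S) := ⟨a ⊗ₜ ⟨m, hm⟩, rfl⟩
      rw [(Submodule.Quotient.mk_eq_zero _).2 hr, map_zero]
    let g : CharacterModule (S ⊗[R] (S ⊗[R] N)) :=
      CharacterModule.uncurry ((-extChar σ N).comp (CharacterModule.curry c'))
    have key : ∀ z, c' z = g ((delta ρ).lTensor S z) := fun z => by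
      induction z using TensorProduct.induction_on with
      | zero => simp only [map_zero]
      | tmul a n =>
        have hz := proj_eq_zero (σ := σ) hco (f := CharacterModule.curry c' a) fun m hm => hc a m hm
        have := DFunLike.congr_fun (sub_proj (ρ := ρ) hσ (CharacterModule.curry c' a)) n
        rw [hz, sub_zero] at this
        exact this
      | add z w hz hw => rw [map_add, map_add, map_add, hz, hw]
    show c' y = 0
    rw [key, hy, map_zero]
  · rintro ⟨x, rfl⟩
    rw [← LinearMap.comp_apply, ← LinearMap.lTensor_comp]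
    have : (delta ρ).comp (inv ρ).subtype = 0 := LinearMap.ext fun m => m.2
    rw [this, LinearMap.lTensor_zero, LinearMap.zero_apply]

include hσ in
/-- Tensoring the inclusion of the coinvariants is injective. -/
theorem injective_lTensor_inv (hco : Coassoc ρ) :
    Function.Injective ((inv ρ).subtype.lTensor S) := by
  rw [LinearMap.lTensor_inj_iff_rTensor_inj, rTensor_injective_iff_lcomp_surjective]
  intro φ
  let p : CharacterModule N →ₗ[R] CharacterModule (inv ρ) := CharacterModule.dual (inv ρ).subtype
  have hp : Function.Surjective p :=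
    CharacterModule.dual_surjective_of_injective _ (inv ρ).injective_subtype
  have hker : LinearMap.ker p ≤ LinearMap.ker (proj σ ρ) := fun f hf =>
    proj_eq_zero hco fun m hm => DFunLike.congr_fun (LinearMap.mem_ker.1 hf) ⟨m, hm⟩
  let T : CharacterModule (inv ρ) →ₗ[R] CharacterModule N :=
    ((LinearMap.ker p).liftQ (proj σ ρ) hker).comp (p.quotKerEquivOfSurjective hp).symm.toLinearMap
  refine ⟨Pi1X.flipChar (T.comp (Pi1X.flipChar φ)), LinearMap.ext fun m => DFunLike.ext _ _ fun a => ?_⟩
  obtain ⟨H, hH⟩ := hp (Pi1X.flipChar φ a)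
  show T (Pi1X.flipChar φ a) m.1 = φ m a
  have hT : T (Pi1X.flipChar φ a) = proj σ ρ H := by
    rw [← hH]
    show (LinearMap.ker p).liftQ (proj σ ρ) hker ((p.quotKerEquivOfSurjective hp).symm (p H)) = _
    rw [show (p.quotKerEquivOfSurjective hp).symm (p H) = Submodule.Quotient.mk H by
      rw [LinearEquiv.symm_apply_eq]; rfl]
    rfl
  rw [hT]
  show extChar σ N H (ρ m.1) = φ m a
  rw [(mem_inv ρ).1 m.2, extChar_one hσ]
  exact DFunLike.congr_fun hH m

end Coaction

section Counit

variable {N : Type u} [AddCommGroup N] [Module R N] [Module S N] [IsScalarTower R S N]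
  (ρ : N →ₗ[S] S ⊗[R] N)

/-- The base change of the coinvariants of a counital coassociative coaction is everything. -/
theorem bijective_liftBaseChange (h : Pi1.UnivInjective R S) (hco : Coassoc (ρ.restrictScalars R))
    (hcu : ∀ n, LinearMap.liftBaseChange S (LinearMap.id : N →ₗ[R] N) (ρ n) = n) :
    Function.Bijective (LinearMap.liftBaseChange S (inv (ρ.restrictScalars R)).subtype) := by
  obtain ⟨σ, hσ⟩ := exists_charSection h
  let ρ' := ρ.restrictScalars R
  let μ := LinearMap.liftBaseChange S (LinearMap.id : N →ₗ[R] N)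
  have hμ : ∀ x, LinearMap.liftBaseChange S (inv ρ').subtype x = μ ((inv ρ').subtype.lTensor S x) := fun x => by
    induction x using TensorProduct.induction_on with
    | zero => simp only [map_zero]
    | tmul a m => simp [μ]
    | add z w hz hw => simp only [map_add, hz, hw]
  let μ' := LinearMap.liftBaseChange S (LinearMap.id : S ⊗[R] N →ₗ[R] S ⊗[R] N)
  have h₁ : ∀ y, μ' (ρ'.lTensor S y) = ρ (μ y) := fun y => by
    induction y using TensorProduct.induction_on with
    | zero => simp only [map_zero]
    | tmul a n =>
      rw [LinearMap.lTensor_tmul]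
      simp only [μ', μ, LinearMap.liftBaseChange_tmul, LinearMap.id_apply, map_smul]
      rfl
    | add z w hz hw => simp only [map_add, hz, hw]
  have h₂ : ∀ y, μ' ((TensorProduct.mk R S N 1).lTensor S y) = y := fun y => by
    induction y using TensorProduct.induction_on with
    | zero => simp only [map_zero]
    | tmul a n => simp [μ', smul_tmul']
    | add z w hz hw => simp only [map_add, hz, hw]
  refine ⟨(injective_iff_map_eq_zero _).2 fun x hx => injective_lTensor_inv (σ := σ) hσ hco ?_, fun n => ?_⟩
  · have hy := (exact_lTensor_inv (σ := σ) hσ hco).apply_apply_eq_zero x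
    rw [delta, LinearMap.lTensor_sub, LinearMap.sub_apply, sub_eq_zero] at hy
    have := congrArg μ' hy
    rw [h₂, h₁, ← hμ, hx, map_zero] at this
    rw [← this, map_zero]
  · obtain ⟨x, hx⟩ := (exact_lTensor_inv (σ := σ) hσ hco (ρ n)).1 (by
      rw [delta, LinearMap.lTensor_sub, LinearMap.sub_apply, sub_eq_zero]
      exact hco n)
    exact ⟨x, by rw [hμ, hx]; exact hcu n⟩

end Counit

end Groth.Agent.DescLib.ModDesc
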