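import Groth.Agent.DescLib.ModDesc.Eval
import Groth.Agent.DescLib.ModDesc.Equalizer

/-!
# Descent data for modules along a universally injective ring map are effective
-/

universe u

set_option autoImplicit false
set_option backward.isDefEq.respectTransparency false
set_option backward.isDefEq.respectTransparency.types false

open CategoryTheory Opposite TensorProduct

namespace Groth.Agent.DescLib.ModDesc

variable {R S : Type u} [CommRing R] [CommRing S] [Algebra R S]

variable (R S) in
/-- The morphism of affine schemes of an algebra. -/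
noncomputable abbrev pOf : op (CommRingCat.of S) ⟶ op (CommRingCat.of R) :=
  (CommRingCat.ofHom (algebraMap R S)).op

/-- The morphism of affine schemes of a ring map. -/
noncomputable abbrev specHom {A B : Type u} [CommRing A] [CommRing B] (φ : A →+* B) :
    op (CommRingCat.of B) ⟶ op (CommRingCat.of A) :=
  (CommRingCat.ofHom φ).op

variable (R S) in
/-- The first projection of the double product. -/
noncomputable abbrev inl : op (CommRingCat.of (S ⊗[R] S)) ⟶ op (CommRingCat.of S) :=
  specHom Algebra.TensorProduct.includeLeftRingHom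

variable (R S) in
/-- The second projection of the double product. -/
noncomputable abbrev inr : op (CommRingCat.of (S ⊗[R] S)) ⟶ op (CommRingCat.of S) :=
  specHom (Algebra.TensorProduct.includeRight (R := R) (A := S) (B := S)).toRingHom

lemma inl_inr : inl R S ≫ pOf R S = inr R S ≫ pOf R S := by
  refine Quiver.Hom.unop_inj (CommRingCat.hom_ext (RingHom.ext fun r => ?_))
  show algebraMap R S r ⊗ₜ[R] (1 : S) = (1 : S) ⊗ₜ[R] algebraMap R S r
  rw [Algebra.algebraMap_eq_smul_one, smul_tmul]

variable (D : Desc.ringModPF.{u}.DescentData (fun _ : PUnit.{u + 1} => pOf R S))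

/-- The module of the datum. -/
noncomputable abbrev NN : ModuleCat.{u} S := carrier D

noncomputable instance modR : Module R (NN D) := Module.compHom _ (algebraMap R S)

instance tower : IsScalarTower R S (NN D) :=
  ⟨fun r s n => by
    show (r • s) • n = algebraMap R S r • s • n
    rw [Algebra.smul_def, mul_smul]⟩

/-- The value of `a ⊗ b ↦ a ⊗ b n`. -/
noncomputable def phi (n : NN D) : S ⊗[R] S →ₗ[R] S ⊗[R] NN D :=
  ((LinearMap.toSpanSingleton S (NN D) n).restrictScalars R).lTensor S

lemma phi_tmul (n : NN D) (a b : S) : phi D n (a ⊗ₜ b) = a ⊗ₜ (b • n) := rfl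

lemma phi_add (n n' : NN D) (y : S ⊗[R] S) : phi D (n + n') y = phi D n y + phi D n' y := by
  induction y using TensorProduct.induction_on with
  | zero => simp only [map_zero, add_zero]
  | tmul a b => rw [phi_tmul, phi_tmul, phi_tmul, smul_add, tmul_add]
  | add z w hz hw => rw [map_add, map_add, map_add, hz, hw, add_add_add_comm]

lemma phi_smul (n : NN D) (x : S) (y : S ⊗[R] S) :
    phi D (x • n) y = phi D n (((1 : S) ⊗ₜ[R] x) * y) := by
  induction y using TensorProduct.induction_on with
  | zero => rw [mul_zero]; simp only [map_zero]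
  | tmul a b => rw [phi_tmul, Algebra.TensorProduct.tmul_mul_tmul, phi_tmul, one_mul, mul_smul, smul_comm]
  | add z w hz hw => rw [map_add, mul_add, map_add, hz, hw]

lemma phi_left (n : NN D) (s : S) (y : S ⊗[R] S) :
    phi D n ((s ⊗ₜ[R] (1 : S)) * y) = s • phi D n y := by
  induction y using TensorProduct.induction_on with
  | zero => rw [mul_zero]; simp only [map_zero, smul_zero]
  | tmul a b => rw [Algebra.TensorProduct.tmul_mul_tmul, phi_tmul, phi_tmul, one_mul, smul_tmul', smul_eq_mul]
  | add z w hz hw => rw [mul_add, map_add, map_add, smul_add, hz, hw]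

/-- The identification of the pullback along the second projection. -/
noncomputable def theta : (ES (inr R S)).obj (NN D) →+ S ⊗[R] NN D :=
  liftAdd (AddMonoidHom.mk' (fun n => (phi D n).toAddMonoidHom)
    fun n n' => AddMonoidHom.ext fun y => by
      show phi D (n + n') y = phi D n y + phi D n' y
      exact phi_add D n n' y).flip
    fun x y n => (phi_smul D n x y).symm

lemma theta_tm (y : S ⊗[R] S) (n : NN D) : theta D (tm (inr R S) (NN D) y n) = phi D n y := rfl

lemma theta_smul (s : S) (z : (ES (inr R S)).obj (NN D)) :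
    theta D ((s ⊗ₜ[R] (1 : S) : (op (CommRingCat.of (S ⊗[R] S))).unop) • z) = s • theta D z := by
  induction z using es_induction with
  | h0 => rw [smul_zero, map_zero, smul_zero]
  | h1 y n => exact phi_left D n s y
  | h2 a b ha hb => rw [smul_add, map_add, map_add, smul_add, ha, hb]

/-- The inverse identification. -/
noncomputable def theta' : S ⊗[R] NN D →+ (ES (inr R S)).obj (NN D) :=
  TensorProduct.liftAddHom
    (AddMonoidHom.mk' (fun a => AddMonoidHom.mk' (fun n => tm (inr R S) (NN D) (a ⊗ₜ[R] (1 : S)) n)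
        fun n n' => tm_add_right _ _ _ n n')
      fun a a' => AddMonoidHom.ext fun n => by
        show tm (inr R S) (NN D) ((a + a') ⊗ₜ[R] (1 : S)) n = _
        rw [add_tmul]
        exact tm_add_left (inr R S) (NN D) (a ⊗ₜ[R] (1 : S)) (a' ⊗ₜ[R] (1 : S)) n)
    fun r a n => by
      show tm (inr R S) (NN D) ((r • a) ⊗ₜ[R] (1 : S)) n =
        tm (inr R S) (NN D) (a ⊗ₜ[R] (1 : S)) (algebraMap R S r • n)
      rw [tm_smul]
      congr 1
      show (r • a) ⊗ₜ[R] (1 : S) = ((1 : S) ⊗ₜ[R] algebraMap R S r) * (a ⊗ₜ[R] (1 : S))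
      rw [Algebra.TensorProduct.tmul_mul_tmul, one_mul, mul_one, Algebra.algebraMap_eq_smul_one, smul_tmul]

lemma theta'_tmul (a : S) (n : NN D) : theta' D (a ⊗ₜ n) = tm (inr R S) (NN D) (a ⊗ₜ[R] (1 : S)) n := rfl

lemma theta'_theta (z : (ES (inr R S)).obj (NN D)) : theta' D (theta D z) = z := by
  induction z using es_induction with
  | h0 => rw [map_zero, map_zero]
  | h1 y n =>
    rw [theta_tm]
    induction y using TensorProduct.induction_on with
    | zero =>
      rw [map_zero, map_zero, tm_eq]
      exact (zero_smul (op (CommRingCat.of (S ⊗[R] S))).unop _).symm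
    | tmul a b =>
      rw [phi_tmul, theta'_tmul, tm_smul]
      congr 1
      show ((1 : S) ⊗ₜ[R] b) * (a ⊗ₜ[R] (1 : S)) = a ⊗ₜ[R] b
      rw [Algebra.TensorProduct.tmul_mul_tmul, one_mul, mul_one]
    | add z w hz hw =>
      rw [map_add, map_add, hz, hw]
      exact (tm_add_left _ _ _ _ _).symm
  | h2 a b ha hb => rw [map_add, map_add, ha, hb]

/-- The gluing evaluated on `1 ⊗ n`. -/
noncomputable def psi (n : NN D) : (ES (inr R S)).obj (NN D) :=
  homM D (inl R S) (inr R S) inl_inr (one (inl R S) _ n)

lemma psi_add (n n' : NN D) : psi D (n + n') = psi D n + psi D n' := by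
  rw [psi, one_add, map_add]; rfl

lemma psi_smul (s : S) (n : NN D) :
    psi D (s • n) = (s ⊗ₜ[R] (1 : S) : (op (CommRingCat.of (S ⊗[R] S))).unop) • psi D n := by
  rw [psi, one_smul' (inl R S) (NN D) s n, map_smul]; rfl

/-- The coaction of a descent datum. -/
noncomputable def rho : NN D →ₗ[S] S ⊗[R] NN D where
  toFun n := theta D (psi D n)
  map_add' n n' := by rw [psi_add, map_add]
  map_smul' s n := by rw [psi_smul, theta_smul]; rfl

lemma theta'_rho (n : NN D) : theta' D (rho D n) = psi D n := theta'_theta D _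

variable (R S) in
/-- The partial projection `(1, 2)` of the triple product. -/
noncomputable abbrev g12 : op (CommRingCat.of (S ⊗[R] (S ⊗[R] S))) ⟶ op (CommRingCat.of (S ⊗[R] S)) :=
  specHom (Algebra.TensorProduct.map (AlgHom.id R S) (Algebra.TensorProduct.includeLeft :
    S →ₐ[R] S ⊗[R] S)).toRingHom

variable (R S) in
/-- The partial projection `(1, 3)` of the triple product. -/
noncomputable abbrev g13 : op (CommRingCat.of (S ⊗[R] (S ⊗[R] S))) ⟶ op (CommRingCat.of (S ⊗[R] S)) :=
  specHom (Algebra.TensorProduct.map (AlgHom.id R S) (Algebra.TensorProduct.includeRight :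
    S →ₐ[R] S ⊗[R] S)).toRingHom

variable (R S) in
/-- The partial projection `(2, 3)` of the triple product. -/
noncomputable abbrev g23 : op (CommRingCat.of (S ⊗[R] (S ⊗[R] S))) ⟶ op (CommRingCat.of (S ⊗[R] S)) :=
  specHom (Algebra.TensorProduct.includeRight (R := R) (A := S) (B := S ⊗[R] S)).toRingHom

lemma g23_inl : g23 R S ≫ inl R S = g12 R S ≫ inr R S := rfl

lemma g13_inl : g13 R S ≫ inl R S = g12 R S ≫ inl R S :=
  Quiver.Hom.unop_inj (CommRingCat.hom_ext (RingHom.ext fun a => rfl))

lemma g13_inr : g13 R S ≫ inr R S = g23 R S ≫ inr R S :=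
  Quiver.Hom.unop_inj (CommRingCat.hom_ext (RingHom.ext fun a => rfl))

/-- The identification of the pullback along the last projection of the triple product. -/
noncomputable def theta3 : (ES (g23 R S ≫ inr R S)).obj (NN D) →+ S ⊗[R] (S ⊗[R] NN D) :=
  liftAdd (AddMonoidHom.mk' (fun n => ((phi D n).lTensor S).toAddMonoidHom)
    (fun n n' => AddMonoidHom.ext fun y => by
      show (phi D (n + n')).lTensor S y = (phi D n).lTensor S y + (phi D n').lTensor S y
      rw [show phi D (n + n') = phi D n + phi D n' from LinearMap.ext (phi_add D n n'),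
        LinearMap.lTensor_add, LinearMap.add_apply])).flip
    fun x y n => by
      show (phi D n).lTensor S (((1 : S) ⊗ₜ[R] ((1 : S) ⊗ₜ[R] x)) * y) = (phi D (x • n)).lTensor S y
      induction y using TensorProduct.induction_on with
      | zero => rw [mul_zero]; simp only [map_zero]
      | tmul a b =>
        rw [Algebra.TensorProduct.tmul_mul_tmul, one_mul, LinearMap.lTensor_tmul, LinearMap.lTensor_tmul,
          phi_smul]
      | add z w hz hw => rw [mul_add, map_add, map_add, hz, hw]

lemma theta3_tm (y : S ⊗[R] (S ⊗[R] S)) (n : NN D) :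
    theta3 D (tm (g23 R S ≫ inr R S) (NN D) y n) = (phi D n).lTensor S y := rfl

theorem coassoc : Coassoc ((rho D).restrictScalars R) := by
  have e12 : (g12 R S ≫ inl R S) ≫ pOf R S = (g12 R S ≫ inr R S) ≫ pOf R S := by
    rw [Category.assoc, Category.assoc, inl_inr]
  have e23 : (g12 R S ≫ inr R S) ≫ pOf R S = (g23 R S ≫ inr R S) ≫ pOf R S := by
    rw [← g23_inl, Category.assoc, Category.assoc, inl_inr]
  intro n
  have hc := congrArg (fun m => theta3 D (m (one (g12 R S ≫ inl R S) _ n)))
    (homM_comp D (g12 R S ≫ inl R S) (g12 R S ≫ inr R S) (g23 R S ≫ inr R S) e12 e23)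
  simp only [CategoryTheory.comp_apply] at hc
  rw [homM_bmap D (g12 R S) (inl R S) (inr R S) inl_inr _ _ rfl rfl,
    homM_bmap D (g13 R S) (inl R S) (inr R S) inl_inr _ _ g13_inl g13_inr,
    show homM D (inl R S) (inr R S) inl_inr (one (inl R S) _ n) = theta' D (rho D n) from
      (theta'_rho D n).symm] at hc
  have k1 : ∀ z, theta3 D (homM D (g12 R S ≫ inr R S) (g23 R S ≫ inr R S) e23
      (bmap (inr R S) _ (g12 R S) rfl (theta' D z))) = ((rho D).restrictScalars R).lTensor S z := fun z => by
    induction z using TensorProduct.induction_on with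
    | zero => rw [map_zero, bmap_zero, map_zero, map_zero, map_zero]
    | tmul a m =>
      rw [theta'_tmul, bmap_tm, map_smul,
        homM_bmap D (g23 R S) (inl R S) (inr R S) inl_inr _ _ g23_inl rfl,
        show homM D (inl R S) (inr R S) inl_inr (one (inl R S) _ m) = theta' D (rho D m) from
          (theta'_rho D m).symm, LinearMap.lTensor_tmul]
      show _ = a ⊗ₜ[R] rho D m
      generalize rho D m = w
      induction w using TensorProduct.induction_on with
      | zero => rw [map_zero, bmap_zero, smul_zero, map_zero, tmul_zero]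
      | tmul b k =>
        rw [theta'_tmul, bmap_tm, smul_tm, smul_tm, theta3_tm]
        show (phi D k).lTensor S ((a ⊗ₜ[R] ((1 : S) ⊗ₜ[R] (1 : S))) *
          (((1 : S) ⊗ₜ[R] (b ⊗ₜ[R] (1 : S))) * 1)) = _
        rw [mul_one, Algebra.TensorProduct.tmul_mul_tmul, mul_one, ← Algebra.TensorProduct.one_def, one_mul,
          LinearMap.lTensor_tmul, phi_tmul, one_smul]
      | add z w hz hw => rw [map_add, bmap_add, smul_add, map_add, tmul_add, hz, hw]
    | add z w hz hw => rw [map_add, bmap_add, map_add, map_add, map_add, hz, hw]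
  have k2 : ∀ z, theta3 D (bmap (inr R S) _ (g13 R S) g13_inr (theta' D z)) =
      (TensorProduct.mk R S (NN D) 1).lTensor S z := fun z => by
    induction z using TensorProduct.induction_on with
    | zero => rw [map_zero, bmap_zero, map_zero, map_zero]
    | tmul a k =>
      rw [theta'_tmul, bmap_tm, smul_tm, theta3_tm]
      show (phi D k).lTensor S ((a ⊗ₜ[R] (((1 : S) ⊗ₜ[R] (1 : S)))) * 1) = _
      rw [mul_one, LinearMap.lTensor_tmul, phi_tmul, one_smul]
      rfl
    | add z w hz hw => rw [map_add, bmap_add, map_add, map_add, hz, hw]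
  exact (k1 (rho D n)).symm.trans (hc.trans (k2 (rho D n)))

theorem counit (n : NN D) : LinearMap.liftBaseChange S (LinearMap.id : NN D →ₗ[R] NN D) (rho D n) = n := by
  let mulg : op (CommRingCat.of S) ⟶ op (CommRingCat.of (S ⊗[R] S)) :=
    specHom (Algebra.TensorProduct.lmul' R : S ⊗[R] S →ₐ[R] S).toRingHom
  have m₁ : mulg ≫ inl R S = 𝟙 _ :=
    Quiver.Hom.unop_inj (CommRingCat.hom_ext (RingHom.ext fun a => by
      show Algebra.TensorProduct.lmul' R (a ⊗ₜ[R] (1 : S)) = a
      simp))
  have m₂ : mulg ≫ inr R S = 𝟙 _ :=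
    Quiver.Hom.unop_inj (CommRingCat.hom_ext (RingHom.ext fun a => by
      show Algebra.TensorProduct.lmul' R ((1 : S) ⊗ₜ[R] a) = a
      simp))
  let κ : (ES (𝟙 (op (CommRingCat.of S)))).obj (NN D) →+ NN D :=
    liftAdd (AddMonoidHom.mk' (fun y => AddMonoidHom.mk' (fun m : NN D => (y : S) • m) (smul_add (y : S)))
      fun y y' => AddMonoidHom.ext fun m => add_smul (y : S) y' m)
      fun x y m => by
        show ((x : S) * y) • m = (y : S) • (x : S) • m
        rw [mul_comm, mul_smul]
  have hκ : ∀ (y : S) (m : NN D), κ (tm (𝟙 (op (CommRingCat.of S))) (NN D) y m) = y • m := fun y m => rfl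
  have k : ∀ z, κ (bmap (inr R S) _ mulg m₂ (theta' D z)) =
      LinearMap.liftBaseChange S (LinearMap.id : NN D →ₗ[R] NN D) z := fun z => by
    induction z using TensorProduct.induction_on with
    | zero => rw [map_zero, bmap_zero, map_zero, map_zero]
    | tmul a m =>
      rw [theta'_tmul, bmap_tm, smul_tm, LinearMap.liftBaseChange_tmul]
      show κ (tm (𝟙 (op (CommRingCat.of S))) (NN D) ((Algebra.TensorProduct.lmul' R (a ⊗ₜ[R] (1 : S)) : S) * (1 : S)) m) = a • m
      rw [hκ]; simp
    | add z w hz hw => rw [map_add, bmap_add, map_add, map_add, hz, hw]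
  rw [← k, theta'_rho, psi, ← homM_bmap D mulg (inl R S) (inr R S) inl_inr _ _ m₁ m₂ rfl, homM_self]
  show κ (one (𝟙 (op (CommRingCat.of S))) (NN D) n) = n
  exact (hκ 1 n).trans (one_smul S n)

/-- The descended module. -/
noncomputable abbrev desc : Submodule R (NN D) := inv ((rho D).restrictScalars R)

/-- Gluing is the identity on descended elements. -/
theorem homM_one_of_mem {m : NN D} (hm : m ∈ desc D) {T : CommRingCat.{u}ᵒᵖ} (f₁ f₂ : T ⟶ op (CommRingCat.of S))
    (e : f₁ ≫ pOf R S = f₂ ≫ pOf R S) : homM D f₁ f₂ e (one f₁ _ m) = one f₂ _ m := by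
  letI : Algebra R T.unop := (f₁.unop.hom.comp (algebraMap R S)).toAlgebra
  let a₁ : S →ₐ[R] T.unop := { f₁.unop.hom with commutes' := fun r => rfl }
  let a₂ : S →ₐ[R] T.unop := { f₂.unop.hom with
    commutes' := fun r => (congrArg (fun k : T ⟶ op (CommRingCat.of R) => k.unop r) e).symm }
  have hcm : ∀ x y, Commute (a₁ x) (a₂ y) := fun _ _ => Commute.all _ _
  let g : T ⟶ op (CommRingCat.of (S ⊗[R] S)) :=
    (CommRingCat.ofHom (Algebra.TensorProduct.lift a₁ a₂ hcm).toRingHom).op
  have h₁ : g ≫ inl R S = f₁ :=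
    Quiver.Hom.unop_inj (CommRingCat.hom_ext (RingHom.ext fun a => by
      show Algebra.TensorProduct.lift a₁ a₂ hcm (a ⊗ₜ[R] (1 : S)) = a₁ a
      simp))
  have h₂ : g ≫ inr R S = f₂ :=
    Quiver.Hom.unop_inj (CommRingCat.hom_ext (RingHom.ext fun a => by
      show Algebra.TensorProduct.lift a₁ a₂ hcm ((1 : S) ⊗ₜ[R] a) = a₂ a
      simp))
  have hψ : psi D m = one (inr R S) _ m := by
    rw [← theta'_rho]
    have := (mem_inv ((rho D).restrictScalars R)).1 hm
    rw [show rho D m = (1 : S) ⊗ₜ[R] m from this, theta'_tmul]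
    rfl
  rw [homM_bmap D g (inl R S) (inr R S) inl_inr f₁ f₂ h₁ h₂, show homM D (inl R S) (inr R S) inl_inr
    (one (inl R S) _ m) = one (inr R S) _ m from hψ, bmap_one]

/-- Descent data along a universally injective ring map are effective. -/
theorem effective (h : Pi1.UnivInjective R S) :
    ∃ M : ModuleCat.{u} R, Nonempty
      ((Desc.ringModPF.{u}.toDescentData (fun _ : PUnit.{u + 1} => pOf R S)).obj M ≅ D) := by
  let Mc : ModuleCat.{u} R := ModuleCat.of R (desc D)
  let φe : S →+ Mc →+ NN D :=
    AddMonoidHom.mk' (fun y => AddMonoidHom.mk' (fun m : desc D => y • m.1)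
        fun m m' => by rw [Submodule.coe_add, smul_add])
      fun y y' => AddMonoidHom.ext fun m => add_smul y y' _
  let eAdd : (ES (pOf R S)).obj Mc →+ NN D := liftAdd φe fun r y m => by
    show (algebraMap R S r * y) • (m : desc D).1 = y • (algebraMap R S r • (m : desc D).1)
    rw [mul_comm, mul_smul]
  let eh : (ES (pOf R S)).obj Mc ⟶ NN D := ModuleCat.ofHom
    { toFun := eAdd
      map_add' := map_add eAdd
      map_smul' := fun s z => by
        induction z using es_induction with
        | h0 => rw [smul_zero, map_zero, smul_zero]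
        | h1 y m => exact mul_smul (s : S) y (m : desc D).1
        | h2 a b ha hb => rw [smul_add, map_add, map_add, smul_add, ha, hb] }
  let c : (ES (pOf R S)).obj Mc →+ S ⊗[R] desc D :=
    liftAdd (AddMonoidHom.mk' (fun y => AddMonoidHom.mk' (fun m : desc D => y ⊗ₜ[R] m) (tmul_add y))
      fun y y' => AddMonoidHom.ext fun m => add_tmul y y' m)
      fun r y m => by
        show (algebraMap R S r * y) ⊗ₜ[R] (m : desc D) = y ⊗ₜ[R] (r • (m : desc D))
        rw [← Algebra.smul_def, smul_tmul]
  let c' : S ⊗[R] desc D →+ (ES (pOf R S)).obj Mc :=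
    TensorProduct.liftAddHom
      (AddMonoidHom.mk' (fun y => AddMonoidHom.mk' (fun m : desc D => tm (pOf R S) Mc y m)
          fun m m' => tm_add_right (pOf R S) Mc y m m')
        fun y y' => AddMonoidHom.ext fun m => tm_add_left (pOf R S) Mc y y' m)
      fun r y m => by
        show tm (pOf R S) Mc (r • y) m = tm (pOf R S) Mc y (r • m)
        rw [Algebra.smul_def]
        exact (tm_smul (pOf R S) Mc y r m).symm
  have hc : Function.Bijective c :=
    ⟨Function.LeftInverse.injective (g := c') fun z => by
        induction z using es_induction with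
        | h0 => rw [map_zero, map_zero]
        | h1 y m => rfl
        | h2 a b ha hb => rw [map_add, map_add, ha, hb],
      Function.RightInverse.surjective (g := c') fun z => by
        induction z using TensorProduct.induction_on with
        | zero => rw [map_zero, map_zero]
        | tmul y m => rfl
        | add a b ha hb => rw [map_add, map_add, ha, hb]⟩
  have heq : ∀ z, eh z = LinearMap.liftBaseChange S (desc D).subtype (c z) := fun z => by
    induction z using es_induction with
    | h0 => rw [map_zero, map_zero, map_zero]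
    | h1 y m =>
      show (y : S) • (m : desc D).1 = LinearMap.liftBaseChange S (desc D).subtype ((y : S) ⊗ₜ[R] (m : desc D))
      rw [LinearMap.liftBaseChange_tmul]
      rfl
    | h2 a b ha hb => rw [map_add, map_add, map_add, ha, hb]
  haveI : IsIso eh := by
    rw [ConcreteCategory.isIso_iff_bijective, show ⇑eh = _ ∘ c from funext heq]
    exact (bijective_liftBaseChange (rho D) h (coassoc D) (counit D)).comp hc
  have heh : ∀ m : desc D, eh (one (pOf R S) Mc m) = m.1 := fun m => one_smul S m.1
  refine ⟨Mc, ⟨Pseudofunctor.DescentData.isoMk (fun _ => asIso eh) fun T q i₁ i₂ f₁ f₂ hf₁ hf₂ => ?_⟩⟩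
  cases i₁; cases i₂
  subst hf₂
  show (ES f₁).map eh ≫ homM D f₁ f₂ hf₁ =
    (compInv (pOf R S) Mc f₁ (h := f₂ ≫ pOf R S) hf₁ ≫ compHom (pOf R S) Mc f₂ (h := f₂ ≫ pOf R S) rfl) ≫
      (ES f₂).map eh
  haveI : IsIso (compHom (pOf R S) Mc f₁ (h := f₂ ≫ pOf R S) hf₁) :=
    ⟨compInv (pOf R S) Mc f₁ hf₁, compHom_inv hf₁, compInv_hom hf₁⟩
  rw [← cancel_epi (compHom (pOf R S) Mc f₁ (h := f₂ ≫ pOf R S) hf₁)]
  refine es_hom_ext fun m => ?_
  rw [CategoryTheory.comp_apply, CategoryTheory.comp_apply, CategoryTheory.comp_apply, compHom_one hf₁,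
    CategoryTheory.comp_apply, CategoryTheory.comp_apply, compInv_one hf₁, compHom_one rfl, es_map_tm,
    es_map_tm, heh, homM_one_of_mem D (m : desc D).2]

end Groth.Agent.DescLib.ModDesc
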