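import Groth.Agent.DescLib.ModDesc.Effective
import Mathlib.RingTheory.Flat.FaithfullyFlat.Algebra

/-!
# Descent for modules is an equivalence exactly along universally injective ring maps
-/

universe u

set_option autoImplicit false
set_option maxHeartbeats 400000
set_option backward.isDefEq.respectTransparency false
set_option backward.isDefEq.respectTransparency.types false

open CategoryTheory Opposite TensorProduct

namespace Groth.Agent.DescLib.ModDesc

variable {R S : Type u} [CommRing R] [CommRing S] [Algebra R S]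

lemma univInjective_of_injective
    (h : ∀ (P : Type u) [AddCommGroup P] [Module R P], Function.Injective (TensorProduct.mk R S P 1)) :
    Pi1.UnivInjective R S := by
  intro P _ _ a b hab
  obtain ⟨a, rfl⟩ := (TensorProduct.rid R P).symm.surjective a
  obtain ⟨b, rfl⟩ := (TensorProduct.rid R P).symm.surjective b
  simp only [TensorProduct.rid_symm_apply, LinearMap.lTensor_tmul, Algebra.linearMap_apply, map_one] at hab
  have := congrArg (TensorProduct.comm R P S) hab
  simp only [TensorProduct.comm_tmul] at this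
  rw [h P this]

theorem univInjective_of_faithfullyFlat [Module.FaithfullyFlat R S] : Pi1.UnivInjective R S :=
  univInjective_of_injective fun P _ _ => Module.FaithfullyFlat.tensorProduct_mk_injective P

/-- Extension of scalars along an algebra as the tensor product. -/
noncomputable def toTensor (M : ModuleCat.{u} R) : (ES (pOf R S)).obj M →+ S ⊗[R] M :=
  liftAdd (AddMonoidHom.mk' (fun y => AddMonoidHom.mk' (fun m : M => (y : S) ⊗ₜ[R] m) (tmul_add (y : S)))
      fun y y' => AddMonoidHom.ext fun m => add_tmul (y : S) y' m)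
    fun r y m => by
      show (algebraMap R S r * y) ⊗ₜ[R] m = (y : S) ⊗ₜ[R] (r • m)
      rw [← Algebra.smul_def, smul_tmul]

/-- The inverse of `toTensor`. -/
noncomputable def ofTensor (M : ModuleCat.{u} R) : S ⊗[R] M →+ (ES (pOf R S)).obj M :=
  TensorProduct.liftAddHom
    (AddMonoidHom.mk' (fun y => AddMonoidHom.mk' (fun m : M => tm (pOf R S) M y m)
        fun m m' => tm_add_right (pOf R S) M y m m')
      fun y y' => AddMonoidHom.ext fun m => tm_add_left (pOf R S) M y y' m)
    fun r y m => by
      show tm (pOf R S) M (r • y) m = tm (pOf R S) M y (r • m)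
      rw [Algebra.smul_def]
      exact (tm_smul (pOf R S) M y r m).symm

lemma ofTensor_toTensor (M : ModuleCat.{u} R) (z : (ES (pOf R S)).obj M) : ofTensor M (toTensor M z) = z := by
  induction z using es_induction with
  | h0 => rw [map_zero, map_zero]
  | h1 y m => rfl
  | h2 a b ha hb => rw [map_add, map_add, ha, hb]

lemma toTensor_one (M : ModuleCat.{u} R) (m : M) : toTensor (S := S) M (one (pOf R S) M m) = (1 : S) ⊗ₜ m := rfl

lemma ofTensor_tmul (M : ModuleCat.{u} R) (y : S) (m : M) :
    ofTensor M (y ⊗ₜ[R] m) = tm (pOf R S) M y m := rfl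

lemma one_injective (h : Pi1.UnivInjective R S) (M : ModuleCat.{u} R) :
    Function.Injective (one (pOf R S) M) := fun m m' e => by
  have := congrArg (toTensor M) e
  rw [toTensor_one, toTensor_one] at this
  exact Pi1X.one_tmul_injective h M this

variable (R S) in
/-- The descent functor. -/
noncomputable abbrev descFun :=
  Desc.ringModPF.{u}.toDescentData (fun _ : PUnit.{u + 1} => pOf R S)

lemma homM_descFun (M : ModuleCat.{u} R) {T : CommRingCat.{u}ᵒᵖ} (f₁ f₂ : T ⟶ op (CommRingCat.of S))
    (e : f₁ ≫ pOf R S = f₂ ≫ pOf R S) :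
    homM ((descFun R S).obj M) f₁ f₂ e =
      compInv (pOf R S) M f₁ (h := f₂ ≫ pOf R S) e ≫ compHom (pOf R S) M f₂ (h := f₂ ≫ pOf R S) rfl :=
  rfl

lemma ofObj_one (M : ModuleCat.{u} R) {T : CommRingCat.{u}ᵒᵖ} (f₁ f₂ : T ⟶ op (CommRingCat.of S))
    (e : f₁ ≫ pOf R S = f₂ ≫ pOf R S) (m : M) (z : carrier ((descFun R S).obj M))
    (hz : z = one (pOf R S) M m) :
    homM ((descFun R S).obj M) f₁ f₂ e (one f₁ (carrier ((descFun R S).obj M)) z) =
      one f₂ (carrier ((descFun R S).obj M)) z := by
  subst hz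
  have h2 : ∀ z : (ES f₁).obj ((ES (pOf R S)).obj M), z = one f₁ _ (one (pOf R S) M m) →
      (compInv (pOf R S) M f₁ (h := f₂ ≫ pOf R S) e ≫ compHom (pOf R S) M f₂ (h := f₂ ≫ pOf R S) rfl) z =
        one f₂ ((ES (pOf R S)).obj M) (one (pOf R S) M m) := fun z hz => by
    rw [hz, CategoryTheory.comp_apply, compInv_one e, compHom_one rfl]
  rw [homM_descFun]
  exact h2 _ rfl

lemma mem_desc_of (D : Desc.ringModPF.{u}.DescentData (fun _ : PUnit.{u + 1} => pOf R S)) {z : NN D}
    (h : homM D (inl R S) (inr R S) inl_inr (one (inl R S) _ z) = one (inr R S) _ z) : z ∈ desc D := by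
  rw [mem_inv]
  show theta D (psi D z) = (1 : S) ⊗ₜ[R] z
  rw [show psi D z = tm (inr R S) (NN D) ((1 : S) ⊗ₜ[R] (1 : S)) z from h, theta_tm, phi_tmul, one_smul]

theorem faithful (h : Pi1.UnivInjective R S) : (descFun R S).Faithful where
  map_injective {M N} a b e := by
    refine ModuleCat.hom_ext (LinearMap.ext fun m => one_injective h N ?_)
    have := congrArg (fun φ => φ.hom PUnit.unit) e
    exact congrArg (fun k : (ES (pOf R S)).obj M ⟶ (ES (pOf R S)).obj N => k (one (pOf R S) M m)) this

/-- The underlying map of a morphism of descent data. -/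
abbrev homOf {D D' : Desc.ringModPF.{u}.DescentData (fun _ : PUnit.{u + 1} => pOf R S)} (φ : D ⟶ D') :
    carrier D ⟶ carrier D' :=
  φ.hom PUnit.unit

lemma homM_map {D D' : Desc.ringModPF.{u}.DescentData (fun _ : PUnit.{u + 1} => pOf R S)} (φ : D ⟶ D')
    {T : CommRingCat.{u}ᵒᵖ} (f₁ f₂ : T ⟶ op (CommRingCat.of S)) (e : f₁ ≫ pOf R S = f₂ ≫ pOf R S) (z : carrier D) :
    homM D' f₁ f₂ e (one f₁ (carrier D') ((homOf φ) z)) =
      (ES f₂).map (homOf φ) (homM D f₁ f₂ e (one f₁ (carrier D) z)) := by
  have h : (ES f₁).map (homOf φ) ≫ homM D' f₁ f₂ e =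
      homM D f₁ f₂ e ≫ (ES f₂).map (homOf φ) :=
    φ.comm (f₂ ≫ pOf R S) (i₁ := PUnit.unit) (i₂ := PUnit.unit) f₁ f₂ e rfl
  have := congrArg (fun k : (ES f₁).obj (carrier D) ⟶ (ES f₂).obj (carrier D') => k (one f₁ (carrier D) z)) h
  simp only [CategoryTheory.comp_apply] at this
  rw [es_map_tm] at this
  exact this

lemma mem_desc_map {D D' : Desc.ringModPF.{u}.DescentData (fun _ : PUnit.{u + 1} => pOf R S)} (φ : D ⟶ D')
    {z : carrier D} (h : homM D (inl R S) (inr R S) inl_inr (one (inl R S) (carrier D) z) = one (inr R S) (carrier D) z) :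
    (homOf φ z : NN D') ∈ desc D' := by
  refine mem_desc_of D' ?_
  refine (homM_map φ (inl R S) (inr R S) inl_inr z).trans ?_
  rw [h, es_map_tm]

lemma one_mem_desc (N : ModuleCat.{u} R) (n : N) :
    (one (pOf R S) N n : NN ((descFun R S).obj N)) ∈ desc ((descFun R S).obj N) :=
  mem_desc_of _ (ofObj_one N _ _ _ n _ rfl)

variable (S) in
/-- The canonical map to the coinvariants. -/
noncomputable def toInv (N : ModuleCat.{u} R) : N →ₗ[R] desc ((descFun R S).obj N) where
  toFun n := ⟨one (pOf R S) N n, one_mem_desc N n⟩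
  map_add' n n' := Subtype.ext (one_add (pOf R S) N n n')
  map_smul' r n := Subtype.ext (one_smul' (pOf R S) N r n)

lemma liftBaseChange_toInv (N : ModuleCat.{u} R) (x : S ⊗[R] N) :
    LinearMap.liftBaseChange S (desc ((descFun R S).obj N)).subtype ((toInv S N).lTensor S x) = ofTensor N x := by
  induction x using TensorProduct.induction_on with
  | zero => simp only [map_zero]
  | tmul y n =>
    rw [LinearMap.lTensor_tmul, LinearMap.liftBaseChange_tmul, ofTensor_tmul]
    exact (tm_eq (pOf R S) N y n).symm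
  | add a b ha hb => rw [map_add, map_add, map_add, ha, hb]

theorem toInv_surjective (h : Pi1.UnivInjective R S) (N : ModuleCat.{u} R) :
    Function.Surjective (toInv S N) := by
  have hj := bijective_liftBaseChange (rho ((descFun R S).obj N)) h (coassoc _) (counit _)
  have hs : Function.Surjective ((toInv S N).lTensor S) := fun w => by
    refine ⟨toTensor N (LinearMap.liftBaseChange S (desc ((descFun R S).obj N)).subtype w), hj.1 ?_⟩
    exact (liftBaseChange_toInv N _).trans (ofTensor_toTensor N _)
  intro w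
  rw [← LinearMap.mem_range, ← Submodule.Quotient.mk_eq_zero]
  refine Pi1X.eq_zero_of_one_tmul h ?_
  obtain ⟨x, hx⟩ := hs ((1 : S) ⊗ₜ w)
  have := congrArg ((LinearMap.range (toInv S N)).mkQ.lTensor S) hx
  rw [← LinearMap.comp_apply, ← LinearMap.lTensor_comp, LinearMap.range_mkQ_comp, LinearMap.lTensor_zero] at this
  exact this.symm

theorem exists_eq_one (h : Pi1.UnivInjective R S) (M N : ModuleCat.{u} R)
    (φ : (descFun R S).obj M ⟶ (descFun R S).obj N) (m : M) :
    ∃ n : N, one (pOf R S) N n = homOf φ (one (pOf R S) M m) := by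
  obtain ⟨n, hn⟩ := toInv_surjective h N ⟨_, mem_desc_map φ (ofObj_one M _ _ inl_inr m _ rfl)⟩
  exact ⟨n, congrArg Subtype.val hn⟩

theorem exists_map_eq (h : Pi1.UnivInjective R S) (M N : ModuleCat.{u} R)
    (φ : (descFun R S).obj M ⟶ (descFun R S).obj N) : ∃ ψ : M ⟶ N, (descFun R S).map ψ = φ := by
  choose a ha' using exists_eq_one h M N φ
  let ψ : M ⟶ N := ModuleCat.ofHom
    { toFun := a
      map_add' := fun m m' => one_injective h N (by
        rw [ha', one_add, map_add, one_add, ha', ha'])
      map_smul' := fun r m => one_injective h N (by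
        rw [ha', RingHom.id_apply, one_smul', map_smul, one_smul', ha']) }
  refine ⟨ψ, ?_⟩
  refine Pseudofunctor.DescentData.hom_ext fun i => ?_
  cases i
  show (ES (pOf R S)).map ψ = φ.hom PUnit.unit
  refine es_hom_ext fun m => ?_
  rw [es_map_tm]
  exact ha' m

theorem full (h : Pi1.UnivInjective R S) : (descFun R S).Full :=
  ⟨fun {M N} φ => exists_map_eq h M N φ⟩

theorem isEquivalence (h : Pi1.UnivInjective R S) : (descFun R S).IsEquivalence :=
  haveI := faithful h
  haveI := full h
  haveI : (descFun R S).EssSurj := ⟨fun D => effective D h⟩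
  { }

theorem univInjective_of_faithful [(descFun R S).Faithful] : Pi1.UnivInjective R S := by
  refine univInjective_of_injective fun P _ _ => (injective_iff_map_eq_zero _).2 fun k hk => ?_
  let K : Submodule R P := LinearMap.ker (TensorProduct.mk R S P 1)
  let a : ModuleCat.of R K ⟶ ModuleCat.of R P := ModuleCat.ofHom K.subtype
  have hmap : (ES (pOf R S)).map a = (ES (pOf R S)).map 0 := es_hom_ext fun x => by
    rw [es_map_tm, es_map_tm]
    have hx : (1 : S) ⊗ₜ[R] ((a x : ModuleCat.of R P) : P) = 0 := LinearMap.mem_ker.1 (show K.subtype x ∈ K from x.2)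
    have h0 : (1 : S) ⊗ₜ[R] (((0 : ModuleCat.of R K ⟶ ModuleCat.of R P) x : ModuleCat.of R P) : P) = 0 :=
      tmul_zero _ _
    rw [← ofTensor_tmul, ← ofTensor_tmul, hx, h0]
  have : a = 0 := (descFun R S).map_injective (Pseudofunctor.DescentData.hom_ext fun i => by
    cases i; exact hmap)
  exact congrArg (fun q : ModuleCat.of R K ⟶ ModuleCat.of R P => q ⟨k, hk⟩) this

end Groth.Agent.DescLib.ModDesc
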