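import Groth.Prelude.Def_Desc
import Mathlib.Algebra.Category.ModuleCat.ChangeOfRings

/-!
# Evaluating descent data for modules on elements
-/

universe u

set_option autoImplicit false
set_option backward.isDefEq.respectTransparency false
set_option backward.isDefEq.respectTransparency.types false

open CategoryTheory Opposite TensorProduct

namespace Groth.Agent.DescLib.ModDesc

variable {X Y Z : CommRingCat.{u}ᵒᵖ}

/-- Extension of scalars along a morphism of affine schemes. -/
noncomputable abbrev ES (f : Y ⟶ X) : ModuleCat.{u} X.unop ⥤ ModuleCat.{u} Y.unop :=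
  ModuleCat.extendScalars f.unop.hom

/-- A pure tensor. -/
noncomputable def tm (f : Y ⟶ X) (M : ModuleCat.{u} X.unop) (y : Y.unop) (m : M) : (ES f).obj M :=
  letI := f.unop.hom.toAlgebra
  y ⊗ₜ[X.unop] m

/-- The canonical map to the extension of scalars. -/
noncomputable abbrev one (f : Y ⟶ X) (M : ModuleCat.{u} X.unop) (m : M) : (ES f).obj M := tm f M 1 m

variable (f : Y ⟶ X) (M : ModuleCat.{u} X.unop)

lemma smul_tm (a y : Y.unop) (m : M) : a • tm f M y m = tm f M (a * y) m := rfl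

lemma tm_eq (y : Y.unop) (m : M) : tm f M y m = y • one f M m := by rw [smul_tm, mul_one]

lemma tm_add_right (y : Y.unop) (m m' : M) : tm f M y (m + m') = tm f M y m + tm f M y m' :=
  letI := f.unop.hom.toAlgebra
  TensorProduct.tmul_add _ _ _

lemma tm_add_left (y y' : Y.unop) (m : M) : tm f M (y + y') m = tm f M y m + tm f M y' m :=
  letI := f.unop.hom.toAlgebra
  TensorProduct.add_tmul _ _ _

lemma tm_smul (y : Y.unop) (x : X.unop) (m : M) : tm f M y (x • m) = tm f M (f.unop x * y) m :=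
  letI := f.unop.hom.toAlgebra
  (TensorProduct.smul_tmul x y m).symm

lemma one_add (m m' : M) : one f M (m + m') = one f M m + one f M m' := tm_add_right f M 1 m m'

lemma one_zero : one f M 0 = 0 :=
  letI := f.unop.hom.toAlgebra
  TensorProduct.tmul_zero _ _

lemma one_smul' (x : X.unop) (m : M) : one f M (x • m) = f.unop x • one f M m := by
  show tm f M 1 (x • m) = f.unop x • tm f M 1 m
  rw [tm_smul, smul_tm]

variable {f M}

/-- Induction on an extension of scalars. -/
lemma es_induction {P : (ES f).obj M → Prop} (h0 : P 0) (h1 : ∀ y m, P (tm f M y m))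
    (h2 : ∀ a b, P a → P b → P (a + b)) (z : (ES f).obj M) : P z :=
  letI := f.unop.hom.toAlgebra
  TensorProduct.induction_on z h0 h1 h2

/-- An additive map out of an extension of scalars. -/
noncomputable def liftAdd {V : Type u} [AddCommGroup V] (φ : Y.unop →+ M →+ V)
    (h : ∀ (x : X.unop) (y : Y.unop) (m : M), φ (f.unop x * y) m = φ y (x • m)) : (ES f).obj M →+ V :=
  letI := f.unop.hom.toAlgebra
  TensorProduct.liftAddHom φ h

lemma liftAdd_tm {V : Type u} [AddCommGroup V] (φ : Y.unop →+ M →+ V)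
    (h : ∀ (x : X.unop) (y : Y.unop) (m : M), φ (f.unop x * y) m = φ y (x • m)) (y : Y.unop) (m : M) :
    liftAdd φ h (tm f M y m) = φ y m := rfl

lemma es_hom_ext {V : ModuleCat.{u} Y.unop} {a b : (ES f).obj M ⟶ V}
    (h : ∀ m, a (one f M m) = b (one f M m)) : a = b :=
  ModuleCat.ExtendScalars.hom_ext h

lemma es_map_tm {M' : ModuleCat.{u} X.unop} (a : M ⟶ M') (y : Y.unop) (m : M) :
    (ES f).map a (tm f M y m) = tm f M' y (a m) := rfl

section Comp

variable {g : Z ⟶ Y} {h : Z ⟶ X} (e : g ≫ f = h)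

variable (f g M) in
/-- The composition isomorphism. -/
noncomputable def compHom : (ES h).obj M ⟶ (ES g).obj ((ES f).obj M) :=
  (Desc.ringModPF.mapComp' f.op.toLoc g.op.toLoc h.op.toLoc (by subst e; rfl)).hom.toNatTrans.app M

variable (f g M) in
/-- The inverse of the composition isomorphism. -/
noncomputable def compInv : (ES g).obj ((ES f).obj M) ⟶ (ES h).obj M :=
  (Desc.ringModPF.mapComp' f.op.toLoc g.op.toLoc h.op.toLoc (by subst e; rfl)).inv.toNatTrans.app M

lemma compHom_inv : compHom f M g e ≫ compInv f M g e = 𝟙 _ := by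
  exact Cat.Hom.hom_inv_id_toNatTrans_app _ _

lemma compInv_hom : compInv f M g e ≫ compHom f M g e = 𝟙 _ := by
  exact Cat.Hom.inv_hom_id_toNatTrans_app _ _

lemma compHom_one (m : M) : compHom f M g e (one h M m) = one g _ (one f M m) := by
  subst e
  have : compHom f M g (h := g ≫ f) rfl = (ModuleCat.extendScalarsComp f.unop.hom g.unop.hom).hom.app M := by
    simp [compHom, Desc.ringModPF, Pseudofunctor.mapComp', Pseudofunctor.comp, Functor.toPseudofunctor]
    rfl
  rw [this]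
  exact ModuleCat.extendScalarsComp_hom_app_one_tmul f.unop.hom g.unop.hom M m

lemma compInv_one (m : M) : compInv f M g e (one g _ (one f M m)) = one h M m := by
  rw [← compHom_one e, ← CategoryTheory.comp_apply, compHom_inv]
  rfl

end Comp

variable (f M) in
/-- Change of rings for elements. -/
noncomputable def bmap (g : Z ⟶ Y) {h : Z ⟶ X} (e : g ≫ f = h) (z : (ES f).obj M) : (ES h).obj M :=
  compInv f M g e (one g _ z)

section

variable {g : Z ⟶ Y} {h : Z ⟶ X} (e : g ≫ f = h)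

lemma bmap_add (z w : (ES f).obj M) : bmap f M g e (z + w) = bmap f M g e z + bmap f M g e w := by
  rw [bmap, one_add, map_add]; rfl

lemma bmap_zero : bmap f M g e 0 = 0 := by rw [bmap, one_zero, map_zero]

lemma bmap_smul (y : Y.unop) (z : (ES f).obj M) : bmap f M g e (y • z) = g.unop y • bmap f M g e z := by
  rw [bmap, one_smul', map_smul]; rfl

lemma bmap_one (m : M) : bmap f M g e (one f M m) = one h M m := compInv_one e m

lemma bmap_tm (y : Y.unop) (m : M) : bmap f M g e (tm f M y m) = g.unop y • one h M m := by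
  rw [tm_eq, bmap_smul, bmap_one]

end

section Datum

variable {p : Y ⟶ X} (D : Desc.ringModPF.{u}.DescentData (fun _ : PUnit.{u + 1} => p))

/-- The module of a descent datum. -/
noncomputable abbrev carrier : ModuleCat.{u} Y.unop := D.obj PUnit.unit

variable {T T' : CommRingCat.{u}ᵒᵖ}

/-- The gluing morphism of a descent datum. -/
noncomputable def homM (f₁ f₂ : T ⟶ Y) (e : f₁ ≫ p = f₂ ≫ p) :
    (ES f₁).obj (carrier D) ⟶ (ES f₂).obj (carrier D) :=
  D.hom (i₁ := PUnit.unit) (i₂ := PUnit.unit) (f₂ ≫ p) f₁ f₂ e rfl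

lemma homM_self (f₁ : T ⟶ Y) : homM D f₁ f₁ rfl = 𝟙 _ :=
  D.hom_self (i := PUnit.unit) (f₁ ≫ p) f₁ rfl

lemma homM_comp (f₁ f₂ f₃ : T ⟶ Y) (e : f₁ ≫ p = f₂ ≫ p) (e' : f₂ ≫ p = f₃ ≫ p) :
    homM D f₁ f₂ e ≫ homM D f₂ f₃ e' = homM D f₁ f₃ (e.trans e') := by
  have h : homM D f₁ f₂ e = D.hom (i₁ := PUnit.unit) (i₂ := PUnit.unit) (f₃ ≫ p) f₁ f₂ (e.trans e') e' := by
    simp only [homM, e']
  rw [h]
  exact D.hom_comp (f₃ ≫ p) f₁ f₂ f₃ _ _ _

lemma homM_bmap (g : T' ⟶ T) (f₁ f₂ : T ⟶ Y) (e : f₁ ≫ p = f₂ ≫ p) (gf₁ gf₂ : T' ⟶ Y)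
    (h₁ : g ≫ f₁ = gf₁) (h₂ : g ≫ f₂ = gf₂) (e' : gf₁ ≫ p = gf₂ ≫ p) (n : carrier D) :
    homM D gf₁ gf₂ e' (one gf₁ _ n) = bmap f₂ _ g h₂ (homM D f₁ f₂ e (one f₁ _ n)) := by
  have := D.pullHom_hom (i₁ := PUnit.unit) (i₂ := PUnit.unit) g (f₂ ≫ p) (gf₂ ≫ p)
    (by rw [← h₂, Category.assoc]) f₁ f₂ e rfl gf₁ gf₂ h₁ h₂
  rw [homM, ← this]
  show ((compHom f₁ _ g h₁ ≫ (ES g).map (homM D f₁ f₂ e)) ≫ compInv f₂ _ g h₂) _ = _
  rw [CategoryTheory.comp_apply, CategoryTheory.comp_apply, compHom_one h₁, es_map_tm]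
  rfl

end Datum

end Groth.Agent.DescLib.ModDesc
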